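import Groth.Agent.LeadVA.Lift
import Groth.Agent.LeadVA.Spread

/-!
# Sections on the closed fibre lift to a scheme proper and flat over a local ring
-/

set_option autoImplicit false
set_option linter.style.haveILetI false
set_option linter.unusedSectionVars false

universe u

open CategoryTheory CategoryTheory.Limits AlgebraicGeometry Opposite TopologicalSpace
open scoped TensorProduct

namespace Groth.Agent.LeadDefPn

open Groth.Agent.H11Tilde Groth.Agent.LeadBC.GenBC Groth.Agent.H10Coh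

attribute [local instance 10000] H10Coh.hasSheafifyAb H10Coh.hasWeakSheafifyAb H10Coh.hasExtAb H10Coh.enoughInjAb

/-- Sections on a closed fibre lift when the first cohomology of the fibre vanishes. -/
theorem surjective_pullTop {A : Type u} [CommRing A] {K : Type u} [CommRing K] {X Z : Scheme.{u}}
    (f : X ⟶ Spec (CommRingCat.of A)) [IsProper f] [Flat f] [LocallyOfFinitePresentation f]
    (φ : A →+* K) (hφ : Function.Surjective φ) {j : Z ⟶ X} {p : Z ⟶ Spec (CommRingCat.of K)}
    (sq : IsPullback j p f (Spec.map (CommRingCat.ofHom φ)))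
    (y : Spec (CommRingCat.of A)) (hy : ∀ z, Spec.map (CommRingCat.ofHom φ) z = y)
    {L : X.Modules} (hL : PicF.IsInvertible L) (hH1 : Subsingleton (CohIII.fiberH f L y 1)) :
    Function.Surjective (H11Ample.pullTop j (L := L)) := by
  have hlf := H23Para.isFinLocFree_of_isInvertible hL
  have hfp : CohB1.IsFP L := H8Props.FinLocFree.isFP_of_isFinLocFree L hlf
  have hfl : FlatMod.IsFlatOver f L := H10Coh.SheafHom.isFlatOver_of_isFinLocFree f L hlf
  haveI : L.IsQuasicoherent := H29Fitt.isQCoh_of_isFP L hfp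
  haveI := H10Coh.enoughInjMod X
  obtain ⟨W, hW, hsW, -, hm, -, -⟩ := exists_vanishing_nhd f L hfp hfl 1 hH1
  have hE := (monoOn_succ_iff f L hW hfp hfl 0).1 hm
  let g := Spec.map (CommRingCat.ofHom φ)
  haveI := isIso_bc_zero f L sq hfp hfl fun z => ⟨W, hW, by rw [hy z]; exact hsW, hE⟩
  have hle : (⊤ : (Spec (CommRingCat.of K)).Opens) ≤ g ⁻¹ᵁ ⊤ := le_rfl
  letI := (g.appLE ⊤ ⊤ hle).hom.toAlgebra
  letI := Module.compHom Γ((Scheme.Modules.pushforward p).obj ((Scheme.Modules.pullback j).obj L), ⊤)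
    (g.appLE ⊤ ⊤ hle).hom
  haveI : IsScalarTower Γ(Spec (CommRingCat.of A), ⊤) Γ(Spec (CommRingCat.of K), ⊤)
      Γ((Scheme.Modules.pushforward p).obj ((Scheme.Modules.pullback j).obj L), ⊤) :=
    .of_algebraMap_smul fun _ _ => rfl
  obtain ⟨c, hc, hcf⟩ := exists_transpose_app g (H10Coh.isQuasicoherent_pushforward f L) (τ₀ f L sq)
    (isAffineOpen_top _) (isAffineOpen_top _) hle
  have hsurj : Function.Surjective (LinearMap.liftBaseChange Γ(Spec (CommRingCat.of K), ⊤)
      (FBC.locLin g (τ₀ f L sq) hle)) := by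
    rw [hcf]
    exact ((ConcreteCategory.bijective_of_isIso _).comp hc).2
  have halg : Function.Surjective (algebraMap Γ(Spec (CommRingCat.of A), ⊤) Γ(Spec (CommRingCat.of K), ⊤)) := by
    show Function.Surjective (g.appLE ⊤ ⊤ hle)
    intro b
    obtain ⟨a, ha⟩ := hφ ((Scheme.ΓSpecIso (CommRingCat.of K)).hom b)
    refine ⟨(Scheme.ΓSpecIso (CommRingCat.of A)).inv a, ?_⟩
    have h := ConcreteCategory.congr_hom (Scheme.ΓSpecIso_inv_naturality (CommRingCat.ofHom φ)) a
    show g.appLE ⊤ (g ⁻¹ᵁ ⊤) le_rfl _ = b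
    rw [Scheme.Hom.appLE_eq_app]
    refine h.symm.trans ?_
    show (Scheme.ΓSpecIso (CommRingCat.of K)).inv (φ a) = b
    rw [ha, ← CommRingCat.comp_apply, Iso.hom_inv_id]
    rfl
  intro w
  obtain ⟨z, hz⟩ := hsurj (show Γ((Scheme.Modules.pushforward p).obj ((Scheme.Modules.pullback j).obj L), ⊤) from w)
  subst hz
  induction z using TensorProduct.induction_on with
  | zero =>
    refine ⟨0, ?_⟩
    rw [map_zero]
    exact map_zero (OmegaSh.pullSect j L ⊤).hom
  | add a b ha hb =>
    obtain ⟨s, hs⟩ := ha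
    obtain ⟨t, ht⟩ := hb
    refine ⟨s + t, ?_⟩
    rw [map_add, ← hs, ← ht]
    exact map_add (OmegaSh.pullSect j L ⊤).hom s t
  | tmul r m =>
    obtain ⟨a, rfl⟩ := halg r
    refine ⟨(a • m : Γ((Scheme.Modules.pushforward f).obj L, ⊤)), ?_⟩
    rw [LinearMap.liftBaseChange_tmul, algebraMap_smul, ← map_smul]
    refine Eq.trans ?_ (LeadBC.Seesaw.locLin_τ₀ f L sq hle (preimage_le f sq hle) (a • m)).symm
    exact (H10Coh.mres_self _ _ _).symm

end Groth.Agent.LeadDefPn
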